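import Groth.Agent.Lib.Serre77.Pairing
import Mathlib.CategoryTheory.Triangulated.Triangulated
import Mathlib.CategoryTheory.Triangulated.Yoneda
import Mathlib.CategoryTheory.Yoneda

/-!
# A Serre functor is exact
-/

set_option autoImplicit false
set_option linter.unusedSectionVars false

universe w v u

open CategoryTheory Limits Pretriangulated

namespace Groth.Agent.Lib.Serre77.Exact

open Pairing

variable {k : Type w} [Field k] {T : Type u} [Category.{v} T] [Preadditive T] [Linear k T]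
  [HasZeroObject T] [HasShift T ℤ] [∀ n : ℤ, (shiftFunctor T n).Additive]
  [∀ n : ℤ, (shiftFunctor T n).Linear k] [Pretriangulated T] [∀ X Y : T, Module.Finite k (X ⟶ Y)]
  {S : T ⥤ T} [S.Additive] (d : Data (k := k) S)

theorem exists_eps (X : T) : ∃ ε : (S.obj X)⟦(1 : ℤ)⟧ ⟶ S.obj (X⟦(1 : ℤ)⟧),
    ∀ u : X ⟶ S.obj X, d.tr (X⟦(1 : ℤ)⟧) (u⟦(1 : ℤ)⟧' ≫ ε) = -d.tr X u := by
  let L : (X ⟶ S.obj X) ≃ₗ[k] (X⟦(1 : ℤ)⟧ ⟶ (S.obj X)⟦(1 : ℤ)⟧) :=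
    LinearEquiv.ofBijective ((shiftFunctor T (1 : ℤ)).mapLinearMap k)
      ⟨(shiftFunctor T (1 : ℤ)).map_injective, (shiftFunctor T (1 : ℤ)).map_surjective⟩
  obtain ⟨ε, hε⟩ := d.exists_rep (-(d.tr X ∘ₗ L.symm.toLinearMap))
  refine ⟨ε, fun u => ?_⟩
  rw [hε, LinearMap.neg_apply, LinearMap.comp_apply]
  exact congrArg (fun t => -d.tr X t) (L.symm_apply_apply u)

/-- The comparison `(S X)[1] ⟶ S (X[1])`. -/
noncomputable def eps (X : T) : (S.obj X)⟦(1 : ℤ)⟧ ⟶ S.obj (X⟦(1 : ℤ)⟧) := (exists_eps d X).choose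

theorem eps_spec {X Y : T} (f : X ⟶ Y) (g : Y ⟶ S.obj X) :
    d.tr (X⟦(1 : ℤ)⟧) (f⟦(1 : ℤ)⟧' ≫ g⟦(1 : ℤ)⟧' ≫ eps d X) = -d.tr X (f ≫ g) := by
  rw [← Functor.map_comp_assoc]
  exact (exists_eps d X).choose_spec (f ≫ g)

theorem eps_nat {X' X : T} (a : X' ⟶ X) :
    (S.map a)⟦(1 : ℤ)⟧' ≫ eps d X = eps d X' ≫ S.map (a⟦(1 : ℤ)⟧') := by
  refine d.left_ext fun f => ?_
  obtain ⟨u, rfl⟩ := (shiftFunctor T (1 : ℤ)).map_surjective f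
  rw [eps_spec, ← Category.assoc (u⟦(1 : ℤ)⟧'), ← d.tr_cycle (a⟦(1 : ℤ)⟧') (u⟦(1 : ℤ)⟧' ≫ eps d X'),
    eps_spec, d.tr_cycle a u]

instance isIso_eps (X : T) : IsIso (eps d X) := by
  have key : ∀ (Y : T), Function.Bijective (fun g : Y⟦(1 : ℤ)⟧ ⟶ (S.obj X)⟦(1 : ℤ)⟧ => g ≫ eps d X) := by
    intro Y
    constructor
    · intro g g' h
      obtain ⟨g₀, rfl⟩ := (shiftFunctor T (1 : ℤ)).map_surjective g
      obtain ⟨g₀', rfl⟩ := (shiftFunctor T (1 : ℤ)).map_surjective g'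
      congr 1
      refine d.left_ext fun f => ?_
      dsimp only at h
      rw [← neg_inj, ← eps_spec, ← eps_spec, h]
    · intro t
      obtain ⟨g₀, hg₀⟩ := d.exists_rep
        (-(d.tr (X⟦(1 : ℤ)⟧) ∘ₗ Linear.rightComp k (X⟦(1 : ℤ)⟧) t ∘ₗ
          (shiftFunctor T (1 : ℤ)).mapLinearMap k (X := X) (Y := Y)))
      refine ⟨g₀⟦(1 : ℤ)⟧', d.left_ext fun f => ?_⟩
      obtain ⟨f₀, rfl⟩ := (shiftFunctor T (1 : ℤ)).map_surjective f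
      dsimp only
      rw [eps_spec, hg₀, LinearMap.neg_apply, neg_neg]
      rfl
  refine isIso_of_yoneda_map_bijective _ fun W => ?_
  let e : (W⟦(-1 : ℤ)⟧)⟦(1 : ℤ)⟧ ≅ W := (shiftFunctorCompIsoId T (-1 : ℤ) 1 (by omega)).app W
  constructor
  · intro g g' h
    dsimp only at h
    rw [← cancel_epi e.hom]
    exact (key _).1 (by dsimp only; rw [Category.assoc, Category.assoc, h])
  · intro t
    obtain ⟨g, hg⟩ := (key _).2 (e.hom ≫ t)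
    refine ⟨e.inv ≫ g, ?_⟩
    dsimp only at hg ⊢
    rw [Category.assoc, hg, Iso.inv_hom_id_assoc]

/-- `S ∘ [1] ≅ [1] ∘ S`. -/
noncomputable def commIso : shiftFunctor T (1 : ℤ) ⋙ S ≅ S ⋙ shiftFunctor T (1 : ℤ) :=
  (NatIso.ofComponents (fun X => asIso (eps d X)) (fun a => eps_nat d a)).symm

/-- `S` maps distinguished triangles to distinguished triangles. -/
theorem map_distinguished (Δ : Triangle T) (hΔ : Δ ∈ distTriang T) :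
    Triangle.mk (S.map Δ.mor₁) (S.map Δ.mor₂) (S.map Δ.mor₃ ≫ (commIso d).hom.app Δ.obj₁) ∈
      distTriang T := by
  obtain ⟨Z, i, j, hU⟩ := distinguished_cocone_triangle (S.map Δ.mor₁)
  let Φ : (Δ.obj₃ ⟶ S.obj Δ.obj₂) × (Δ.obj₁⟦(1 : ℤ)⟧ ⟶ Z) →ₗ[k] (Δ.obj₃ ⟶ Z) :=
    (Linear.rightComp k Δ.obj₃ i).coprod (Linear.leftComp k Z Δ.mor₃)
  let ν : (Δ.obj₃ ⟶ S.obj Δ.obj₂) × (Δ.obj₁⟦(1 : ℤ)⟧ ⟶ Z) →ₗ[k] k :=
    (d.tr Δ.obj₂ ∘ₗ Linear.leftComp k (S.obj Δ.obj₂) Δ.mor₂).coprod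
      (d.tr (Δ.obj₁⟦(1 : ℤ)⟧) ∘ₗ Linear.rightComp k (Δ.obj₁⟦(1 : ℤ)⟧) (j ≫ eps d Δ.obj₁))
  have hν : ν ∈ (LinearMap.ker Φ).dualAnnihilator := by
    refine (Submodule.mem_dualAnnihilator _).2 ?_
    rintro ⟨v, w⟩ hvw
    have hsq : Δ.mor₃ ≫ (-w) = v ≫ i := by
      rw [Preadditive.comp_neg, neg_eq_iff_add_eq_zero, add_comm]
      exact hvw
    obtain ⟨(x : Δ.obj₂ ⟶ S.obj Δ.obj₁), (hx₁ : Δ.mor₂ ≫ v = x ≫ S.map Δ.mor₁),
      (hx₂ : (-(Δ.mor₁⟦(1 : ℤ)⟧')) ≫ x⟦(1 : ℤ)⟧' = (-w) ≫ j)⟩ :=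
      complete_distinguished_triangle_morphism₁ _ _ (rot_of_distTriang _ hΔ) hU v (-w) hsq
    have hwj : w ≫ j = (Δ.mor₁ ≫ x)⟦(1 : ℤ)⟧' := by
      rw [Functor.map_comp, ← neg_inj, ← Preadditive.neg_comp, ← hx₂, Preadditive.neg_comp]
    change d.tr Δ.obj₂ (Δ.mor₂ ≫ v) + d.tr (Δ.obj₁⟦(1 : ℤ)⟧) (w ≫ j ≫ eps d Δ.obj₁) = 0
    rw [← Category.assoc w, hwj, hx₁, Functor.map_comp, Category.assoc, eps_spec, ← d.tr_cycle Δ.mor₁ x, add_neg_cancel]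
  rw [← LinearMap.range_dualMap_eq_dualAnnihilator_ker] at hν
  obtain ⟨ξ, hξ⟩ := hν
  obtain ⟨φ, hφ⟩ := d.exists_rep ξ
  have h₁ : i ≫ φ = S.map Δ.mor₂ := d.left_ext fun v => by
    rw [← Category.assoc, hφ, ← d.tr_cycle Δ.mor₂ v]
    have := LinearMap.congr_fun hξ (v, 0)
    simpa [Φ, ν] using this
  have h₂ : φ ≫ S.map Δ.mor₃ = j ≫ eps d Δ.obj₁ := d.left_ext fun w => by
    rw [← Category.assoc w φ, ← d.tr_cycle Δ.mor₃ (w ≫ φ), ← Category.assoc Δ.mor₃, hφ]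
    have := LinearMap.congr_fun hξ (0, w)
    simpa [Φ, ν] using this
  have hex : ∀ (Δ' : Triangle T), Δ' ∈ distTriang T → ∀ (W : T) (y : W ⟶ S.obj Δ'.obj₂),
      y ≫ S.map Δ'.mor₂ = 0 → ∃ x : W ⟶ S.obj Δ'.obj₁, y = x ≫ S.map Δ'.mor₁ := fun Δ' hΔ' W y hy =>
    d.exists_lift Δ'.mor₁ y fun f hf => by
      obtain ⟨f', rfl⟩ := Triangle.yoneda_exact₂ Δ' hΔ' f hf
      rw [Category.assoc, d.tr_cycle, Category.assoc, hy, comp_zero, map_zero]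
  haveI : IsIso φ := by
    refine isIso_of_yoneda_map_bijective _ fun W => ⟨fun z z' h => ?_, fun s => ?_⟩
    · rw [← sub_eq_zero]
      have h0 : (z - z') ≫ φ = 0 := by
        rw [Preadditive.sub_comp, sub_eq_zero]
        exact h
      generalize z - z' = z at h0
      have hzj : z ≫ j = 0 := by
        rw [← cancel_mono (eps d Δ.obj₁), Category.assoc, ← h₂, ← Category.assoc, h0, zero_comp, zero_comp]
      obtain ⟨(y : W ⟶ S.obj Δ.obj₂), (hy : z = y ≫ i)⟩ := Triangle.coyoneda_exact₃ _ hU z hzj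
      obtain ⟨x, hx⟩ := hex Δ hΔ W y (by rw [← h₁, ← Category.assoc, ← hy, h0])
      rw [hy, hx, Category.assoc, show S.map Δ.mor₁ ≫ i = 0 from comp_distTriang_mor_zero₁₂ _ hU, comp_zero]
    · let t : W ⟶ (S.obj Δ.obj₁)⟦(1 : ℤ)⟧ := s ≫ S.map Δ.mor₃ ≫ inv (eps d Δ.obj₁)
      have ht : t ≫ (S.map Δ.mor₁)⟦(1 : ℤ)⟧' = 0 := by
        rw [← cancel_mono (eps d Δ.obj₂), zero_comp, Category.assoc, eps_nat]
        simp only [t, Category.assoc, IsIso.inv_hom_id_assoc]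
        rw [← S.map_comp, comp_distTriang_mor_zero₃₁ _ hΔ, Functor.map_zero, comp_zero]
      obtain ⟨(z : W ⟶ Z), (hz : t = z ≫ j)⟩ := Triangle.coyoneda_exact₁ _ hU t ht
      obtain ⟨(y : W ⟶ S.obj Δ.obj₂), (hy : s - z ≫ φ = y ≫ S.map Δ.mor₂)⟩ :=
        hex _ (rot_of_distTriang _ hΔ) W (s - z ≫ φ) (by
          change (s - z ≫ φ) ≫ S.map Δ.mor₃ = 0
          rw [Preadditive.sub_comp, Category.assoc, h₂, ← Category.assoc, ← hz]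
          simp [t])
      refine ⟨z + y ≫ i, ?_⟩
      change (z + y ≫ i) ≫ φ = s
      rw [Preadditive.add_comp, Category.assoc, h₁, ← hy]
      abel
  refine isomorphic_distinguished _ hU _
    (Triangle.isoMk _ _ (Iso.refl _) (Iso.refl _) (asIso φ).symm ?_ ?_ ?_)
  · exact (Category.comp_id _).trans (Category.id_comp _).symm
  · change S.map Δ.mor₂ ≫ inv φ = 𝟙 _ ≫ i
    rw [Category.id_comp, ← h₁, Category.assoc, IsIso.hom_inv_id, Category.comp_id]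
  · change (S.map Δ.mor₃ ≫ inv (eps d Δ.obj₁)) ≫ (𝟙 _)⟦(1 : ℤ)⟧' = inv φ ≫ j
    rw [CategoryTheory.Functor.map_id, IsIso.eq_inv_comp, ← Category.assoc, ← Category.assoc, h₂,
      Category.assoc j, IsIso.hom_inv_id, Category.comp_id]
    exact Category.comp_id j

end Groth.Agent.Lib.Serre77.Exact
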