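import Groth.Agent.Lib.Serre77.Pairing
import Mathlib.CategoryTheory.Equivalence
import Mathlib.CategoryTheory.Yoneda
import Mathlib.CategoryTheory.Adjunction.FullyFaithful

/-!
# Serre functors from representability of dual Hom functors
-/

set_option autoImplicit false
set_option linter.unusedSectionVars false

universe w v u

open CategoryTheory

namespace Groth.Agent.Lib.Serre77.Exists

open Pairing

variable {k : Type w} [Field k] {T : Type u} [Category.{v} T] [Preadditive T] [Linear k T]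
  [∀ X Y : T, Module.Finite k (X ⟶ Y)]

/-- Representing objects of the duals of `Hom(X, -)`. -/
structure RData where
  /-- The representing object. -/
  obj : T → T
  /-- The representation. -/
  e : ∀ X Y : T, (Y ⟶ obj X) ≃ₗ[k] Module.Dual k (X ⟶ Y)
  nat : ∀ (X Y Y' : T) (g : Y' ⟶ Y) (f : Y ⟶ obj X),
    e X Y' (g ≫ f) = (e X Y f) ∘ₗ Linear.rightComp k X g

namespace RData

variable (r : RData (k := k) (T := T))

/-- The trace. -/
noncomputable def tr (X : T) : (X ⟶ r.obj X) →ₗ[k] k := r.e X (r.obj X) (𝟙 _)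

theorem e_apply {X Y : T} (f : Y ⟶ r.obj X) (h : X ⟶ Y) : r.e X Y f h = r.tr X (h ≫ f) := by
  have := r.nat X _ _ f (𝟙 (r.obj X))
  rw [Category.comp_id] at this
  rw [this]
  rfl

theorem ext {X Y : T} {f f' : Y ⟶ r.obj X} (h : ∀ g : X ⟶ Y, r.tr X (g ≫ f) = r.tr X (g ≫ f')) : f = f' :=
  (r.e X Y).injective (LinearMap.ext fun g => by rw [r.e_apply, r.e_apply, h])

theorem exists_map {X' X : T} (a : X' ⟶ X) :
    ∃ b : r.obj X' ⟶ r.obj X, ∀ g : X ⟶ r.obj X', r.tr X (g ≫ b) = r.tr X' (a ≫ g) := by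
  refine ⟨(r.e X (r.obj X')).symm (r.tr X' ∘ₗ Linear.leftComp k (r.obj X') a), fun g => ?_⟩
  rw [← r.e_apply, LinearEquiv.apply_symm_apply]
  rfl

/-- The induced map. -/
noncomputable def map {X' X : T} (a : X' ⟶ X) : r.obj X' ⟶ r.obj X := (r.exists_map a).choose

theorem map_spec {X' X : T} (a : X' ⟶ X) (g : X ⟶ r.obj X') :
    r.tr X (g ≫ r.map a) = r.tr X' (a ≫ g) := (r.exists_map a).choose_spec g

/-- The functor. -/
noncomputable def functor : T ⥤ T where
  obj := r.obj
  map := r.map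
  map_id X := r.ext fun g => by rw [map_spec, Category.id_comp, Category.comp_id]
  map_comp a b := r.ext fun g => by
    rw [map_spec, ← Category.assoc g, map_spec, ← Category.assoc b, map_spec, Category.assoc]

instance : r.functor.Additive where
  map_add {X Y} a b := r.ext fun (g : Y ⟶ r.obj X) => by
    change r.tr Y (g ≫ r.map (a + b)) = r.tr Y (g ≫ (r.map a + r.map b))
    rw [Preadditive.comp_add, map_add, map_spec, map_spec, map_spec, Preadditive.add_comp, map_add]

instance : r.functor.Linear k where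
  map_smul {X Y} a c := r.ext fun (g : Y ⟶ r.obj X) => by
    change r.tr Y (g ≫ r.map (c • a)) = r.tr Y (g ≫ (c • r.map a))
    rw [Linear.comp_smul, map_smul, map_spec, map_spec, Linear.smul_comp, map_smul]

/-- The pairing. -/
noncomputable def pairing : Data (k := k) r.functor where
  c X Y := (Module.evalEquiv k (X ⟶ Y)).trans (r.e X Y).dualMap
  nat₁ X Y Y' f g := LinearMap.ext fun t => by
    change r.e X Y' t (f ≫ g) = r.e X Y (g ≫ t) f
    rw [r.e_apply, r.e_apply, Category.assoc]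
  nat₂ X' X Y a f := LinearMap.ext fun (t : Y ⟶ r.obj X') => by
    change r.e X' Y t (a ≫ f) = r.e X Y (t ≫ r.map a) f
    rw [r.e_apply, r.e_apply, ← Category.assoc f, map_spec, Category.assoc]

theorem bijective_map (X' X : T) : Function.Bijective (fun a : X' ⟶ X => r.functor.map a) := by
  have h : ∀ a : X' ⟶ X, r.e X (r.obj X') (r.map a) = r.pairing.c X' X a := fun a =>
    LinearMap.ext fun g => by
      change _ = r.e X' X g a
      rw [r.e_apply, r.e_apply, map_spec]
  constructor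
  · intro a b hab
    exact (r.pairing.c X' X).injective ((h a).symm.trans ((congrArg (r.e X (r.obj X')) hab).trans (h b)))
  · intro φ
    obtain ⟨a, ha⟩ := (r.pairing.c X' X).surjective (r.e X (r.obj X') φ)
    exact ⟨a, (r.e X (r.obj X')).injective ((h a).trans ha)⟩

theorem isEquivalence (hR : ∀ X : T, ∃ (RX : T) (e' : ∀ Y : T, (RX ⟶ Y) ≃ₗ[k] Module.Dual k (Y ⟶ X)),
    ∀ (Y Y' : T) (g : Y ⟶ Y') (f : RX ⟶ Y), e' Y' (f ≫ g) = (e' Y f) ∘ₗ Linear.leftComp k X g) :
    r.functor.IsEquivalence := by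
  haveI : r.functor.Faithful := ⟨fun {X Y} {a b} h => (r.bijective_map X Y).1 h⟩
  haveI : r.functor.Full := ⟨fun φ => (r.bijective_map _ _).2 φ⟩
  haveI : r.functor.EssSurj := ⟨fun X => by
    obtain ⟨RX, e', he'⟩ := hR X
    let ι : X ⟶ r.obj RX := (r.e RX X).symm ((Module.evalEquiv k (X ⟶ X) (𝟙 X)) ∘ₗ (e' X).toLinearMap)
    have hι : ∀ f : RX ⟶ X, r.tr RX (f ≫ ι) = e' X f (𝟙 X) := fun f => by
      rw [← r.e_apply, LinearEquiv.apply_symm_apply]
      rfl
    haveI : IsIso ι := by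
      refine isIso_of_yoneda_map_bijective _ fun Y => ?_
      let L : (Y ⟶ X) ≃ₗ[k] (Y ⟶ r.obj RX) :=
        ((Module.evalEquiv k (Y ⟶ X)).trans (e' Y).dualMap).trans (r.e RX Y).symm
      have hL : ∀ g, L g = g ≫ ι := fun g => r.ext fun f => by
        rw [← r.e_apply, ← Category.assoc, hι, he']
        refine (LinearMap.congr_fun ((r.e RX Y).apply_symm_apply _) f).trans ?_
        change e' Y f g = e' Y f (g ≫ 𝟙 X)
        rw [Category.comp_id]
      exact (funext hL : ⇑L = _) ▸ L.bijective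
    exact ⟨RX, ⟨(asIso ι).symm⟩⟩⟩
  exact { }

end RData

theorem repr_of_serre (S : T ≌ T) (d : Data (k := k) S.functor) :
    (∀ X : T, ∃ (SX : T) (e : ∀ Y : T, (Y ⟶ SX) ≃ₗ[k] Module.Dual k (X ⟶ Y)),
        ∀ (Y Y' : T) (g : Y' ⟶ Y) (f : Y ⟶ SX),
          e Y' (g ≫ f) = (e Y f) ∘ₗ Linear.rightComp k X g) ∧
      (∀ X : T, ∃ (RX : T) (e : ∀ Y : T, (RX ⟶ Y) ≃ₗ[k] Module.Dual k (Y ⟶ X)),
        ∀ (Y Y' : T) (g : Y ⟶ Y') (f : RX ⟶ Y),
          e Y' (f ≫ g) = (e Y f) ∘ₗ Linear.leftComp k X g) := by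
  refine ⟨fun X => ⟨S.functor.obj X, fun Y => (Module.evalEquiv k _).trans (d.c X Y).dualMap,
    fun Y Y' g f => LinearMap.ext fun h => ?_⟩, fun X => ⟨S.inverse.obj X,
      fun Y => (d.c (S.inverse.obj X) Y).trans
        (Linear.homCongr k (Iso.refl Y) (S.counitIso.app X).symm).dualMap,
      fun Y Y' g f => LinearMap.ext fun h => ?_⟩⟩
  · change d.c X Y' h (g ≫ f) = d.c X Y (h ≫ g) f
    rw [d.c_apply, d.c_apply, Category.assoc]
  · change d.c (S.inverse.obj X) Y' (f ≫ g) (Linear.homCongr k (Iso.refl Y') (S.counitIso.app X).symm h) =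
      d.c (S.inverse.obj X) Y f (Linear.homCongr k (Iso.refl Y) (S.counitIso.app X).symm (g ≫ h))
    rw [d.c_apply, d.c_apply, Linear.homCongr_apply, Linear.homCongr_apply]
    simp

end Groth.Agent.Lib.Serre77.Exists
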