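import Mathlib.CategoryTheory.Linear.LinearFunctor
import Mathlib.LinearAlgebra.Dual.Lemmas
import Mathlib.RingTheory.Finiteness.Defs

/-!
# The trace pairing of a Serre functor
-/

set_option autoImplicit false
set_option linter.unusedSectionVars false

universe w v u

open CategoryTheory

namespace Groth.Agent.Lib.Serre77.Pairing

variable {k : Type w} [Field k] {T : Type u} [Category.{v} T] [Preadditive T] [Linear k T]
  [∀ X Y : T, Module.Finite k (X ⟶ Y)]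

/-- A functor with a natural perfect pairing `Hom(X, Y) × Hom(Y, S X) → k`. -/
structure Data (S : T ⥤ T) where
  /-- The pairing. -/
  c : ∀ X Y : T, (X ⟶ Y) ≃ₗ[k] Module.Dual k (Y ⟶ S.obj X)
  nat₁ : ∀ (X Y Y' : T) (f : X ⟶ Y) (g : Y ⟶ Y'),
    c X Y' (f ≫ g) = (c X Y f) ∘ₗ Linear.leftComp k (S.obj X) g
  nat₂ : ∀ (X' X Y : T) (a : X' ⟶ X) (f : X ⟶ Y),
    c X' Y (a ≫ f) = (c X Y f) ∘ₗ Linear.rightComp k Y (S.map a)

namespace Data

variable {S : T ⥤ T} (d : Data (k := k) S)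

/-- The trace. -/
noncomputable def tr (X : T) : (X ⟶ S.obj X) →ₗ[k] k := d.c X X (𝟙 X)

theorem c_apply {X Y : T} (f : X ⟶ Y) (g : Y ⟶ S.obj X) : d.c X Y f g = d.tr X (f ≫ g) := by
  have h := d.nat₁ X X Y (𝟙 X) f
  rw [Category.id_comp] at h
  rw [h]
  rfl

theorem tr_cycle {X' X : T} (a : X' ⟶ X) (g : X ⟶ S.obj X') :
    d.tr X' (a ≫ g) = d.tr X (g ≫ S.map a) := by
  have h := d.nat₂ X' X X a (𝟙 X)
  rw [Category.comp_id] at h
  rw [← d.c_apply, h]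
  rfl

theorem left_ext {X Y : T} {g g' : Y ⟶ S.obj X} (h : ∀ f : X ⟶ Y, d.tr X (f ≫ g) = d.tr X (f ≫ g')) :
    g = g' := by
  rw [← sub_eq_zero]
  refine (Module.forall_dual_apply_eq_zero_iff k _).1 fun φ => ?_
  obtain ⟨f, rfl⟩ := (d.c X Y).surjective φ
  rw [map_sub, d.c_apply, d.c_apply, h, sub_self]

theorem right_ext {X Y : T} {f f' : X ⟶ Y} (h : ∀ g : Y ⟶ S.obj X, d.tr X (f ≫ g) = d.tr X (f' ≫ g)) :
    f = f' :=
  (d.c X Y).injective (LinearMap.ext fun g => by rw [d.c_apply, d.c_apply, h])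

/-- Every functional on `Hom(X, Y)` is a pairing with a morphism. -/
theorem exists_rep {X Y : T} (ξ : (X ⟶ Y) →ₗ[k] k) :
    ∃ g : Y ⟶ S.obj X, ∀ f : X ⟶ Y, d.tr X (f ≫ g) = ξ f := by
  refine ⟨(Module.evalEquiv k (Y ⟶ S.obj X)).symm (ξ ∘ₗ (d.c X Y).symm.toLinearMap), fun f => ?_⟩
  rw [← d.c_apply, Module.apply_evalEquiv_symm_apply]
  simp

/-- Dual exactness. -/
theorem exists_lift {X₁ X₂ W : T} (a : X₁ ⟶ X₂) (y : W ⟶ S.obj X₂)
    (h : ∀ f : X₂ ⟶ W, a ≫ f = 0 → d.tr X₂ (f ≫ y) = 0) :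
    ∃ x : W ⟶ S.obj X₁, y = x ≫ S.map a := by
  let Φ : (X₂ ⟶ W) →ₗ[k] (X₁ ⟶ W) := Linear.leftComp k W a
  let ξ₀ : (X₂ ⟶ W) →ₗ[k] k := d.tr X₂ ∘ₗ Linear.rightComp k X₂ y
  have hmem : ξ₀ ∈ (LinearMap.ker Φ).dualAnnihilator := (Submodule.mem_dualAnnihilator _).2 fun f hf => h f hf
  rw [← LinearMap.range_dualMap_eq_dualAnnihilator_ker] at hmem
  obtain ⟨ξ, hξ⟩ := hmem
  obtain ⟨x, hx⟩ := d.exists_rep ξ
  refine ⟨x, d.left_ext fun f => ?_⟩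
  rw [show d.tr X₂ (f ≫ y) = ξ₀ f from rfl, ← hξ, ← Category.assoc, ← d.tr_cycle a (f ≫ x), ← Category.assoc]
  exact (hx (a ≫ f)).symm

end Data

end Groth.Agent.Lib.Serre77.Pairing
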